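import Groth.Agent.Lib.AmpleEmbed
import Groth.Agent.ZetaLib.ProjPoints
import Groth.Agent.QCoh.Stalk
import Groth.Agent.S10867
import Groth.Prelude.Def_ProjUP
import Mathlib.AlgebraicGeometry.AlgClosed.Basic

/-!
# Closed immersions into projective space: linear forms separating points and tangent vectors
-/

noncomputable section

set_option linter.style.haveILetI false
set_option linter.unusedSectionVars false
set_option backward.isDefEq.respectTransparency false
set_option backward.isDefEq.respectTransparency.types false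

universe u

open CategoryTheory CategoryTheory.Limits AlgebraicGeometry TopologicalSpace Opposite
open HomogeneousLocalization (Away)

namespace Groth.Agent.ClosedImmPn

open Groth.Agent Groth.Agent.InvX

variable (n : ℕ) (k : Type u) [Field k]

local notation "𝒜" => CohB1.polyGrading n k
local notation "T" => (MvPolynomial.X : Fin (n + 1) → MvPolynomial (Fin (n + 1)) k)

/-- A coordinate chart. -/
abbrev D (j : Fin (n + 1)) : (CohB1.ProjSpace n k).Opens := Proj.basicOpen 𝒜 (T j)

/-- The constants on a chart. -/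
def cst (j : Fin (n + 1)) : k →+* Γ(CohB1.ProjSpace n k, D n k j) :=
  ((CohB1.ProjSpace.toSpec n k).appLE ⊤ (D n k j) le_top).hom.comp (Scheme.ΓSpecIso (CommRingCat.of k)).inv.hom

/-- The coordinate `T_l / T_j` on a chart. -/
def t (j l : Fin (n + 1)) : Γ(CohB1.ProjSpace n k, D n k j) :=
  (Proj.awayToSection 𝒜 (T j)).hom (ZetaLib.coord n k j l)

theorem cst_eq (j : Fin (n + 1)) (c : k) :
    cst n k j c = (Proj.awayToSection 𝒜 (T j)).hom (ZetaLib.base n k j c) := by
  have h : (D n k j).ι ≫ CohB1.ProjSpace.toSpec n k =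
      Proj.basicOpenToSpec 𝒜 (T j) ≫ Spec.map (CommRingCat.ofHom (ZetaLib.base n k j)) := by
    rw [← ZetaLib.chart_toSpec, ← Proj.basicOpenIsoSpec_hom 𝒜 (T j) (ZetaLib.X_mem_one n k j) Nat.one_pos]
    simp [ZetaLib.chart, Proj.awayι]
  apply (ConcreteCategory.bijective_of_isIso (D n k j).topIso.inv).1
  have h2 := ConcreteCategory.congr_hom (congrArg Scheme.Hom.appTop h) ((Scheme.ΓSpecIso (CommRingCat.of k)).inv c)
  have e1 : Scheme.Hom.appTop ((D n k j).ι ≫ CohB1.ProjSpace.toSpec n k) =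
      (CohB1.ProjSpace.toSpec n k).appLE ⊤ (D n k j) le_top ≫ (D n k j).topIso.inv := by
    simp [Scheme.Hom.appLE, Scheme.Hom.comp_app, Scheme.Opens.topIso, D, ← Functor.map_comp]
  have e2 : Scheme.Hom.appTop (Proj.basicOpenToSpec 𝒜 (T j) ≫ Spec.map (CommRingCat.ofHom (ZetaLib.base n k j))) =
      (Scheme.ΓSpecIso (CommRingCat.of k)).hom ≫ CommRingCat.ofHom (ZetaLib.base n k j) ≫
        Proj.awayToSection 𝒜 (T j) ≫ (D n k j).topIso.inv := by
    rw [Scheme.Hom.comp_appTop, show (Proj.basicOpenToSpec 𝒜 (T j)).appTop = _ from Proj.basicOpenToSpec_app_top 𝒜 (T j)]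
    simp [D]
    rfl
  rw [e1, e2] at h2
  simp at h2
  exact h2

/-- The functions on a chart are generated by constants and coordinates. -/
theorem chart_induction (j : Fin (n + 1)) {P : Γ(CohB1.ProjSpace n k, D n k j) → Prop}
    (hc : ∀ c, P (cst n k j c)) (hl : ∀ l, P (t n k j l)) (hadd : ∀ a b, P a → P b → P (a + b))
    (hmul : ∀ a b, P a → P b → P (a * b)) (x : Γ(CohB1.ProjSpace n k, D n k j)) : P x := by
  haveI : IsIso (Proj.awayToSection 𝒜 (T j)) :=
    inferInstanceAs (IsIso (Proj.basicOpenIsoAway 𝒜 (T j) (ZetaLib.X_mem_one n k j) Nat.one_pos).hom)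
  obtain ⟨y, rfl⟩ := (ConcreteCategory.bijective_of_isIso (Proj.awayToSection 𝒜 (T j))).2 x
  obtain ⟨p, rfl⟩ := ZetaLib.surjective_dehom n k j y
  induction p using MvPolynomial.induction_on with
  | C c =>
    rw [ZetaLib.dehom, MvPolynomial.eval₂Hom_C]
    exact cst_eq n k j c ▸ hc c
  | add p q hp hq =>
    rw [map_add, map_add]
    exact hadd _ _ hp hq
  | mul_X p l hp =>
    rw [map_mul, map_mul]
    refine hmul _ _ hp ?_
    rw [ZetaLib.dehom, MvPolynomial.eval₂Hom_X']
    exact hl l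

variable {n} {k} {X : Scheme.{u}} (pX : X ⟶ Spec (CommRingCat.of k)) (f : X ⟶ CohB1.ProjSpace n k)
  (hf : f ≫ CohB1.ProjSpace.toSpec n k = pX)

/-- The pulled back `O(1)`. -/
abbrev M : X.Modules := (Scheme.Modules.pullback f).obj (Twist.twistProjSpace n k 1)

/-- The pulled back coordinates. -/
abbrev σ (l : Fin (n + 1)) : Γ(M f, ⊤) := ProjUP.pullSec f (Twist.twistProjSpace n k 1) (ProjUP.coord n k l)

/-- The combination of the pulled back coordinates with coefficients `c`. -/
abbrev comb (c : Fin (n + 1) → k) : Γ(M f, ⊤) := ∑ l, ProjUP.toGlobal pX (c l) • σ f l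

theorem preimage_D (j : Fin (n + 1)) : f ⁻¹ᵁ D n k j = H23.TrivBasic.locus (σ f j) :=
  AmpleEmbed.preimage_chart f (Iso.refl (M f)) j rfl

/-- The frame of a chart. -/
abbrev frame (j : Fin (n + 1)) : Γ(M f, f ⁻¹ᵁ D n k j) := AModX.res _ (le_top : f ⁻¹ᵁ D n k j ≤ ⊤) (σ f j)

theorem isFrame_frame (j : Fin (n + 1)) : IsFrame (frame f j) :=
  H23.TrivBasic.isFrame_res_of_le_locus (preimage_D f j).le

theorem res_σ (j l : Fin (n + 1)) :
    AModX.res _ (le_top : f ⁻¹ᵁ D n k j ≤ ⊤) (σ f l) = f.app (D n k j) (t n k j l) • frame f j := by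
  obtain ⟨b, hb⟩ := (isFrame_frame f j).exists_coord le_rfl (AModX.res _ (le_top : f ⁻¹ᵁ D n k j ≤ ⊤) (σ f l))
  rw [AModX.res_self] at hb
  have h := AmpleEmbed.ratioOf_eq f (Iso.refl (M f)) j l (si := σ f j) (sl := σ f l) rfl rfl le_rfl b hb
  rw [hb, ← h]
  exact congrArg (· • frame f j) (ConcreteCategory.congr_hom (Scheme.Hom.appLE_eq_app f) _)

include hf in
theorem app_cst (j : Fin (n + 1)) (c : k) :
    AModX.resR (le_top : f ⁻¹ᵁ D n k j ≤ ⊤) (ProjUP.toGlobal pX c) = f.app (D n k j) (cst n k j c) := by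
  rw [← Scheme.Hom.appLE_eq_app]
  show _ = ((CohB1.ProjSpace.toSpec n k).appLE ⊤ (D n k j) le_top ≫ f.appLE (D n k j) _ le_rfl)
    ((Scheme.ΓSpecIso (CommRingCat.of k)).inv c)
  rw [Scheme.Hom.appLE_comp_appLE]
  simp only [hf]
  rfl

variable (n k) in
/-- A linear form on a chart. -/
def lin (j : Fin (n + 1)) (c : Fin (n + 1) → k) : Γ(CohB1.ProjSpace n k, D n k j) :=
  ∑ l, cst n k j (c l) * t n k j l

include hf in
theorem res_comb (j : Fin (n + 1)) (c : Fin (n + 1) → k) :
    AModX.res _ (le_top : f ⁻¹ᵁ D n k j ≤ ⊤) (comb pX f c) = f.app (D n k j) (lin n k j c) • frame f j := by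
  rw [map_sum, lin, map_sum, Finset.sum_smul]
  refine Finset.sum_congr rfl fun l _ => ?_
  rw [AModX.res_smul, app_cst pX f hf, res_σ, map_mul, mul_smul]

variable {pX f}

/-- Membership in `J • ⊤` for a stalk with a frame. -/
theorem smul_frame_mem_iff {U : X.Opens} {e : Γ(M f, U)} (he : IsFrame e) {x : X} (hx : x ∈ U)
    (J : Ideal (X.presheaf.stalk x)) (r : X.presheaf.stalk x) :
    r • (M f).presheaf.germ U x hx e ∈ (J • ⊤ : Submodule (X.presheaf.stalk x) ((M f).presheaf.stalk x)) ↔ r ∈ J := by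
  refine ⟨fun h => ?_, fun h => Submodule.smul_mem_smul h trivial⟩
  let φ : X.presheaf.stalk x →ₗ[X.presheaf.stalk x] (M f).presheaf.stalk x :=
    LinearMap.toSpanSingleton _ _ ((M f).presheaf.germ U x hx e)
  have hφ : Function.Bijective φ := he.germ_bijective hx
  have hmap : (J • ⊤ : Submodule (X.presheaf.stalk x) ((M f).presheaf.stalk x)) =
      (J • ⊤ : Submodule (X.presheaf.stalk x) (X.presheaf.stalk x)).map φ := by
    rw [Submodule.map_smul'', Submodule.map_top, LinearMap.range_eq_top.2 hφ.2]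
  rw [hmap] at h
  obtain ⟨w, hw, hwe⟩ := h
  rw [SetLike.mem_coe, Ideal.smul_eq_mul, Ideal.mul_top] at hw
  rwa [hφ.1 hwe] at hw

include hf in
theorem germ_comb {j : Fin (n + 1)} {x : X} (hx : f x ∈ D n k j) (c : Fin (n + 1) → k) :
    (M f).presheaf.germ ⊤ x trivial (comb pX f c) =
      f.stalkMap x ((CohB1.ProjSpace n k).presheaf.germ (D n k j) (f x) hx (lin n k j c)) •
        (M f).presheaf.germ (f ⁻¹ᵁ D n k j) x hx (frame f j) := by
  rw [← InvX.germ_res' (le_top : f ⁻¹ᵁ D n k j ≤ ⊤) (show x ∈ f ⁻¹ᵁ D n k j from hx) (comb pX f c),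
    res_comb pX f hf, QCoh.germ_smul', Scheme.Hom.germ_stalkMap_apply]

include hf in
/-- Vanishing of a combination at a point, read on the projective space. -/
theorem comb_mem_iff {j : Fin (n + 1)} {x : X} (hx : f x ∈ D n k j) (c : Fin (n + 1) → k) :
    (M f).presheaf.germ ⊤ x trivial (comb pX f c) ∈
        (IsLocalRing.maximalIdeal (X.presheaf.stalk x) • ⊤ : Submodule (X.presheaf.stalk x) ((M f).presheaf.stalk x)) ↔
      (CohB1.ProjSpace n k).presheaf.germ (D n k j) (f x) hx (lin n k j c) ∈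
        IsLocalRing.maximalIdeal ((CohB1.ProjSpace n k).presheaf.stalk (f x)) := by
  rw [germ_comb hf hx, smul_frame_mem_iff (isFrame_frame f j) (x := x) hx, IsLocalRing.mem_maximalIdeal,
    IsLocalRing.mem_maximalIdeal]
  exact not_congr (isUnit_map_iff (f.stalkMap x).hom _)

/-- Constants exhaust the residue field at a closed point. -/
theorem exists_const [IsAlgClosed k] (pX : X ⟶ Spec (CommRingCat.of k)) [LocallyOfFiniteType pX] {x : X}
    (hx : IsClosed ({x} : Set X)) (a : X.presheaf.stalk x) :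
    ∃ c : k, a - X.presheaf.germ ⊤ x trivial (ProjUP.toGlobal pX c) ∈ IsLocalRing.maximalIdeal (X.presheaf.stalk x) := by
  let e := residueFieldIsoBase pX x hx
  let ρ : CommRingCat.of k ⟶ X.residueField x :=
    (Scheme.ΓSpecIso (CommRingCat.of k)).inv ≫ pX.appTop ≫ X.presheaf.germ ⊤ x trivial ≫ X.residue x
  have hρ : e.inv = ρ := Spec.map_injective (by
    rw [SpecMap_residueFieldIsoBase_inv]
    have h1 : pX = X.toSpecΓ ≫ Spec.map ((Scheme.ΓSpecIso (CommRingCat.of k)).inv ≫ pX.appTop) := by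
      rw [Spec.map_comp, ← Category.assoc, ← Scheme.toSpecΓ_naturality, Category.assoc,
        toSpecΓ_SpecMap_ΓSpecIso_inv, Category.comp_id]
    rw [Scheme.fromSpecResidueField, Category.assoc]
    conv_lhs => rw [h1]
    rw [Scheme.fromSpecStalk_toSpecΓ_assoc, ← Spec.map_comp, ← Spec.map_comp]
    rfl)
  refine ⟨e.hom (X.residue x a), Ideal.Quotient.eq.1 ?_⟩
  have h2 : ρ (e.hom (X.residue x a)) = X.residue x a := by
    rw [← hρ]; exact e.hom_inv_id_apply _
  exact h2.symm

variable (pX f) in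
include hf in
/-- At a closed point the coordinates have constant values. -/
theorem exists_values [IsAlgClosed k] [LocallyOfFiniteType pX] {x : X} (hx : IsClosed ({x} : Set X))
    {j : Fin (n + 1)} (hj : f x ∈ D n k j) (l : Fin (n + 1)) :
    ∃ a : k, (CohB1.ProjSpace n k).presheaf.germ (D n k j) (f x) hj (t n k j l - cst n k j a) ∈
      IsLocalRing.maximalIdeal ((CohB1.ProjSpace n k).presheaf.stalk (f x)) := by
  obtain ⟨a, ha⟩ := exists_const pX hx (f.stalkMap x ((CohB1.ProjSpace n k).presheaf.germ (D n k j) (f x) hj (t n k j l)))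
  refine ⟨a, ?_⟩
  rw [← InvX.germ_resR' (le_top : f ⁻¹ᵁ D n k j ≤ ⊤) (show x ∈ f ⁻¹ᵁ D n k j from hj) (ProjUP.toGlobal pX a),
    app_cst pX f hf, ← Scheme.Hom.germ_stalkMap_apply f (D n k j) x hj, ← map_sub, ← map_sub] at ha
  exact (IsLocalRing.mem_maximalIdeal _).2 fun hu => (IsLocalRing.mem_maximalIdeal _).1 ha (hu.map _)

theorem t_self (j : Fin (n + 1)) : t n k j j = 1 := by
  have h : ZetaLib.coord n k j j = 1 :=
    HomogeneousLocalization.val_injective _ (by
      rw [HomogeneousLocalization.val_one]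
      have hu : IsUnit (algebraMap (MvPolynomial (Fin (n + 1)) k) (Localization (Submonoid.powers (T j))) (T j)) :=
        IsLocalization.map_units _ (⟨T j, 1, pow_one _⟩ : Submonoid.powers (T j))
      exact hu.mul_left_injective ((ZetaLib.val_coord n k j j).trans (_root_.one_mul _).symm))
  rw [t, h, map_one]

theorem lin_single (j l : Fin (n + 1)) (a : k) :
    lin n k j (Pi.single l 1 - Pi.single j a) = t n k j l - cst n k j a := by
  have h : ∀ (i : Fin (n + 1)) (b : k), lin n k j (Pi.single i b) = cst n k j b * t n k j i := fun i b => by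
    rw [lin, Finset.sum_eq_single i (fun m _ hm => by rw [Pi.single_eq_of_ne hm, map_zero, zero_mul])
      (fun h => absurd (Finset.mem_univ i) h), Pi.single_eq_same]
  have hsub : lin n k j (Pi.single l 1 - Pi.single j a) = lin n k j (Pi.single l 1) - lin n k j (Pi.single j a) := by
    simp only [lin, Pi.sub_apply, map_sub, sub_mul, Finset.sum_sub_distrib]
  rw [hsub, h, h, map_one, one_mul, t_self, mul_one]

/-- The value of a function on a chart at two points where the coordinates agree. -/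
theorem eq_of_values {j : Fin (n + 1)} {y z : CohB1.ProjSpace n k} (hy : y ∈ D n k j) (hz : z ∈ D n k j)
    (h : ∀ l, ∃ a : k, (CohB1.ProjSpace n k).presheaf.germ (D n k j) y hy (t n k j l - cst n k j a) ∈
        IsLocalRing.maximalIdeal _ ∧
      (CohB1.ProjSpace n k).presheaf.germ (D n k j) z hz (t n k j l - cst n k j a) ∈ IsLocalRing.maximalIdeal _) :
    y = z := by
  have hD : IsAffineOpen (D n k j) := Proj.isAffineOpen_basicOpen 𝒜 (T j) (ZetaLib.X_mem_one n k j) one_pos
  have key : ∀ g, ∃ a : k, (CohB1.ProjSpace n k).presheaf.germ (D n k j) y hy (g - cst n k j a) ∈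
        IsLocalRing.maximalIdeal _ ∧
      (CohB1.ProjSpace n k).presheaf.germ (D n k j) z hz (g - cst n k j a) ∈ IsLocalRing.maximalIdeal _ := by
    intro g
    refine chart_induction n k j (P := fun g => ∃ a : k, (CohB1.ProjSpace n k).presheaf.germ (D n k j) y hy (g - cst n k j a) ∈
        IsLocalRing.maximalIdeal _ ∧
      (CohB1.ProjSpace n k).presheaf.germ (D n k j) z hz (g - cst n k j a) ∈ IsLocalRing.maximalIdeal _) (fun c => ⟨c, by rw [sub_self, map_zero]; exact zero_mem _,
      by rw [sub_self, map_zero]; exact zero_mem _⟩) h (fun g g' hg hg' => ?_) (fun g g' hg hg' => ?_) g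
    · obtain ⟨a, ha, ha'⟩ := hg
      obtain ⟨b, hb, hb'⟩ := hg'
      have e : g + g' - cst n k j (a + b) = (g - cst n k j a) + (g' - cst n k j b) := by rw [map_add]; ring
      exact ⟨a + b, by rw [e, map_add]; exact add_mem ha hb, by rw [e, map_add]; exact add_mem ha' hb'⟩
    · obtain ⟨a, ha, ha'⟩ := hg
      obtain ⟨b, hb, hb'⟩ := hg'
      have e : g * g' - cst n k j (a * b) = g * (g' - cst n k j b) + cst n k j b * (g - cst n k j a) := by
        rw [map_mul]; ring
      exact ⟨a * b, by rw [e, map_add, map_mul, map_mul]; exact add_mem (Ideal.mul_mem_left _ _ hb) (Ideal.mul_mem_left _ _ ha),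
        by rw [e, map_add, map_mul, map_mul]; exact add_mem (Ideal.mul_mem_left _ _ hb') (Ideal.mul_mem_left _ _ ha')⟩
  have hval : ∀ (w : CohB1.ProjSpace n k) (hw : w ∈ D n k j) g (a : k),
      (CohB1.ProjSpace n k).presheaf.germ (D n k j) w hw (g - cst n k j a) ∈ IsLocalRing.maximalIdeal _ →
      ((CohB1.ProjSpace n k).presheaf.germ (D n k j) w hw g ∈ IsLocalRing.maximalIdeal _ ↔ a = 0) := by
    intro w hw g a ha
    rw [map_sub] at ha
    constructor
    · intro hg
      by_contra h0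
      have h1 := sub_mem hg ha
      rw [sub_sub_cancel] at h1
      exact (IsLocalRing.mem_maximalIdeal _).1 h1 (((isUnit_iff_ne_zero.2 h0).map (cst n k j)).map _)
    · rintro rfl
      rwa [map_zero, map_zero, sub_zero] at ha
  have hmem : ∀ g, (y ∈ (CohB1.ProjSpace n k).basicOpen g ↔ z ∈ (CohB1.ProjSpace n k).basicOpen g) := fun g => by
    obtain ⟨a, ha, ha'⟩ := key g
    rw [Scheme.mem_basicOpen _ _ _ hy, Scheme.mem_basicOpen _ _ _ hz, ← IsLocalRing.notMem_maximalIdeal,
      ← IsLocalRing.notMem_maximalIdeal, hval y hy g a ha, hval z hz g a ha']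
  have hp : hD.primeIdealOf ⟨y, hy⟩ = hD.primeIdealOf ⟨z, hz⟩ := PrimeSpectrum.ext (Ideal.ext fun g =>
    not_iff_not.1 (by rw [← QCoh.mem_basicOpen_iff_notMem hD hy g, ← QCoh.mem_basicOpen_iff_notMem hD hz g]; exact hmem g))
  exact (hD.fromSpec_primeIdealOf ⟨y, hy⟩).symm.trans ((congrArg hD.fromSpec hp).trans (hD.fromSpec_primeIdealOf ⟨z, hz⟩))

theorem exists_mem_D (y : CohB1.ProjSpace n k) : ∃ j, y ∈ D n k j :=
  Opens.mem_iSup.1 ((AmpleEmbed.iSup_basicOpen_X n k).ge (trivial : y ∈ (⊤ : Opens _)))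

variable (pX f) in
include hf in
/-- The linear forms separate the images of two closed points. -/
theorem exists_sep [IsAlgClosed k] [LocallyOfFiniteType pX] {P Q : X} (hP : IsClosed ({P} : Set X))
    (hQ : IsClosed ({Q} : Set X)) (hne : f P ≠ f Q) :
    ∃ c : Fin (n + 1) → k,
      (M f).presheaf.germ ⊤ P trivial (comb pX f c) ∈
          (IsLocalRing.maximalIdeal (X.presheaf.stalk P) • ⊤ : Submodule (X.presheaf.stalk P) ((M f).presheaf.stalk P)) ∧
        (M f).presheaf.germ ⊤ Q trivial (comb pX f c) ∉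
          (IsLocalRing.maximalIdeal (X.presheaf.stalk Q) • ⊤ : Submodule (X.presheaf.stalk Q) ((M f).presheaf.stalk Q)) := by
  obtain ⟨j, hjP⟩ := exists_mem_D (f P)
  choose a ha using fun l => exists_values pX f hf hP hjP l
  by_cases hjQ : f Q ∈ D n k j
  · obtain ⟨l, hl⟩ : ∃ l, (CohB1.ProjSpace n k).presheaf.germ (D n k j) (f Q) hjQ (t n k j l - cst n k j (a l)) ∉
        IsLocalRing.maximalIdeal _ := by
      by_contra! hall
      exact hne (eq_of_values hjP hjQ fun l => ⟨a l, ha l, hall l⟩)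
    refine ⟨Pi.single l 1 - Pi.single j (a l), (comb_mem_iff hf hjP _).2 ?_, fun h => hl ?_⟩
    · rw [lin_single]; exact ha l
    · have := (comb_mem_iff hf hjQ _).1 h
      rwa [lin_single] at this
  · obtain ⟨i, hiQ⟩ := exists_mem_D (f Q)
    refine ⟨Pi.single i 1 - Pi.single j (a i), (comb_mem_iff hf hjP _).2 ?_, fun h => ?_⟩
    · rw [lin_single]; exact ha i
    · have hlin : lin n k i (Pi.single i 1 - Pi.single j (a i)) = 1 - cst n k i (a i) * t n k i j := by
        simp only [lin, Pi.sub_apply, map_sub, sub_mul, Finset.sum_sub_distrib]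
        rw [Finset.sum_eq_single i (fun m _ hm => by rw [Pi.single_eq_of_ne hm, map_zero, zero_mul])
          (fun h => absurd (Finset.mem_univ i) h),
          Finset.sum_eq_single j (fun m _ hm => by rw [Pi.single_eq_of_ne hm, map_zero, zero_mul])
          (fun h => absurd (Finset.mem_univ j) h), Pi.single_eq_same, Pi.single_eq_same, map_one, one_mul, t_self]
      have h1 := (comb_mem_iff hf hiQ _).1 h
      rw [hlin, map_sub, map_one, map_mul] at h1
      have hQ' : ¬ IsUnit ((CohB1.ProjSpace n k).presheaf.germ (D n k i) (f Q) hiQ (t n k i j)) := by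
        intro hu
        refine hjQ (show Q ∈ f ⁻¹ᵁ D n k j from ?_)
        rw [preimage_D]
        have h2 : Q ∈ H23.TrivBasic.locus (σ f j) ⊓ f ⁻¹ᵁ D n k i := by
          rw [H23.TrivBasic.locus_eq_basicOpen (isFrame_frame f i) (res_σ f i j),
            Scheme.mem_basicOpen _ _ _ (show Q ∈ f ⁻¹ᵁ D n k i from hiQ), ← Scheme.Hom.germ_stalkMap_apply f (D n k i) Q hiQ]
          exact hu.map _
        exact h2.1
      refine (IsLocalRing.maximalIdeal.isMaximal ((CohB1.ProjSpace n k).presheaf.stalk (f Q))).ne_top ((Ideal.eq_top_iff_one _).2 ?_)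
      have := add_mem h1 (Ideal.mul_mem_left _
        ((CohB1.ProjSpace n k).presheaf.germ (D n k i) (f Q) hiQ (cst n k i (a i))) ((IsLocalRing.mem_maximalIdeal _).2 hQ'))
      rwa [sub_add_cancel] at this

variable (pX f) in
include hf in
/-- The linear forms vanishing at the image of a closed point generate its maximal ideal. -/
theorem maximalIdeal_eq_span [IsAlgClosed k] [LocallyOfFiniteType pX] {P : X} (hP : IsClosed ({P} : Set X))
    {j : Fin (n + 1)} (hj : f P ∈ D n k j) :
    IsLocalRing.maximalIdeal ((CohB1.ProjSpace n k).presheaf.stalk (f P)) ≤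
      Ideal.span {w | ∃ c : Fin (n + 1) → k, w = (CohB1.ProjSpace n k).presheaf.germ (D n k j) (f P) hj (lin n k j c) ∧
        w ∈ IsLocalRing.maximalIdeal _} := by
  set J := Ideal.span {w | ∃ c : Fin (n + 1) → k, w = (CohB1.ProjSpace n k).presheaf.germ (D n k j) (f P) hj (lin n k j c) ∧
    w ∈ IsLocalRing.maximalIdeal _} with hJ
  have hJm : J ≤ IsLocalRing.maximalIdeal _ := Ideal.span_le.2 fun w ⟨c, _, hw⟩ => hw
  let gm := (CohB1.ProjSpace n k).presheaf.germ (D n k j) (f P) hj
  have key : ∀ g, ∃ a : k, gm (g - cst n k j a) ∈ J := by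
    intro g
    refine chart_induction n k j (P := fun g => ∃ a : k, gm (g - cst n k j a) ∈ J) (fun c => ⟨c, by rw [sub_self, map_zero]; exact zero_mem _⟩) (fun l => ?_)
      (fun g g' hg hg' => ?_) (fun g g' hg hg' => ?_) g
    · obtain ⟨a, ha⟩ := exists_values pX f hf hP hj l
      exact ⟨a, Ideal.subset_span ⟨Pi.single l 1 - Pi.single j a, by rw [lin_single], ha⟩⟩
    · obtain ⟨a, ha⟩ := hg
      obtain ⟨b, hb⟩ := hg'
      exact ⟨a + b, by
        rw [show g + g' - cst n k j (a + b) = (g - cst n k j a) + (g' - cst n k j b) by rw [map_add]; ring, map_add]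
        exact add_mem ha hb⟩
    · obtain ⟨a, ha⟩ := hg
      obtain ⟨b, hb⟩ := hg'
      exact ⟨a * b, by
        rw [show g * g' - cst n k j (a * b) = g * (g' - cst n k j b) + cst n k j b * (g - cst n k j a) by
          rw [map_mul]; ring, map_add, map_mul, map_mul]
        exact add_mem (Ideal.mul_mem_left _ _ hb) (Ideal.mul_mem_left _ _ ha)⟩
  intro w hw
  have hD : IsAffineOpen (D n k j) := Proj.isAffineOpen_basicOpen 𝒜 (T j) (ZetaLib.X_mem_one n k j) one_pos
  letI : Algebra Γ(CohB1.ProjSpace n k, D n k j) ((CohB1.ProjSpace n k).presheaf.stalk (f P)) := gm.hom.toAlgebra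
  haveI : IsLocalization.AtPrime ((CohB1.ProjSpace n k).presheaf.stalk (f P)) (hD.primeIdealOf ⟨f P, hj⟩).asIdeal :=
    hD.isLocalization_stalk ⟨f P, hj⟩
  obtain ⟨⟨u, v⟩, huv⟩ := IsLocalization.surj (hD.primeIdealOf ⟨f P, hj⟩).asIdeal.primeCompl w
  have hv : IsUnit (gm v.1) := IsLocalization.map_units ((CohB1.ProjSpace n k).presheaf.stalk (f P)) v
  have hum : gm u ∈ IsLocalRing.maximalIdeal _ := (show gm u = w * gm v.1 from huv.symm) ▸ Ideal.mul_mem_right _ _ hw
  obtain ⟨a, ha⟩ := key u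
  rw [map_sub] at ha
  have h1 := sub_mem hum (hJm ha)
  rw [sub_sub_cancel] at h1
  have ha0 : a = 0 := by
    by_contra h0
    exact (IsLocalRing.mem_maximalIdeal _).1 h1 (((isUnit_iff_ne_zero.2 h0).map (cst n k j)).map _)
  rw [ha0, map_zero, map_zero, sub_zero] at ha
  exact (Ideal.mul_unit_mem_iff_mem J hv).1 ((show w * gm v.1 = gm u from huv) ▸ ha)

variable (pX f) in
include hf in
/-- Separation of tangent vectors for a closed immersion. -/
theorem tangent_of_isClosedImmersion [IsAlgClosed k] [LocallyOfFiniteType pX] [IsClosedImmersion f] {P : X}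
    (hP : IsClosed ({P} : Set X)) :
    (IsLocalRing.maximalIdeal (X.presheaf.stalk P) • ⊤ : Submodule (X.presheaf.stalk P) ((M f).presheaf.stalk P)) ≤
      Submodule.span (X.presheaf.stalk P) {v | ∃ c : Fin (n + 1) → k, v = (M f).presheaf.germ ⊤ P trivial (comb pX f c) ∧
        v ∈ (IsLocalRing.maximalIdeal (X.presheaf.stalk P) • ⊤ : Submodule (X.presheaf.stalk P) ((M f).presheaf.stalk P))} := by
  obtain ⟨j, hj⟩ := exists_mem_D (f P)
  intro v hv
  obtain ⟨r, rfl⟩ := ((isFrame_frame f j).germ_bijective (show P ∈ f ⁻¹ᵁ D n k j from hj)).2 v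
  have hr := (smul_frame_mem_iff (isFrame_frame f j) (x := P) hj _ r).1 hv
  obtain ⟨w, rfl⟩ := f.stalkMap_surjective P r
  have hw : w ∈ IsLocalRing.maximalIdeal ((CohB1.ProjSpace n k).presheaf.stalk (f P)) :=
    (IsLocalRing.mem_maximalIdeal _).2 fun hu => (IsLocalRing.mem_maximalIdeal _).1 hr (hu.map _)
  have h := maximalIdeal_eq_span pX f hf hP hj hw
  clear hw hr hv
  beta_reduce
  induction h using Submodule.span_induction with
  | mem w hw =>
    obtain ⟨c, rfl, hc⟩ := hw
    refine Submodule.subset_span ⟨c, (germ_comb hf hj c).symm, ?_⟩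
    refine Submodule.smul_mem_smul ((IsLocalRing.mem_maximalIdeal _).2 fun hu => ?_) trivial
    exact (IsLocalRing.mem_maximalIdeal _).1 hc ((isUnit_map_iff (f.stalkMap P).hom _).1 hu)
  | zero => rw [map_zero, zero_smul]; exact zero_mem _
  | add a b _ _ ha hb => rw [map_add, add_smul]; exact add_mem ha hb
  | smul a b _ hb => rw [smul_eq_mul, map_mul, mul_smul]; exact Submodule.smul_mem _ _ hb

variable (pX f) in
include hf in
/-- The criterion. -/
theorem isClosedImmersion_of_sep [IsAlgClosed k] [IsProper pX]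
    (hsep : ∀ P Q : X, IsClosed ({P} : Set X) → IsClosed ({Q} : Set X) → P ≠ Q → ∃ c : Fin (n + 1) → k,
      ((M f).presheaf.germ ⊤ P trivial (comb pX f c) ∈
          (IsLocalRing.maximalIdeal (X.presheaf.stalk P) • ⊤ : Submodule (X.presheaf.stalk P) ((M f).presheaf.stalk P)) ∧
        (M f).presheaf.germ ⊤ Q trivial (comb pX f c) ∉
          (IsLocalRing.maximalIdeal (X.presheaf.stalk Q) • ⊤ : Submodule (X.presheaf.stalk Q) ((M f).presheaf.stalk Q))) ∨
      ((M f).presheaf.germ ⊤ Q trivial (comb pX f c) ∈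
          (IsLocalRing.maximalIdeal (X.presheaf.stalk Q) • ⊤ : Submodule (X.presheaf.stalk Q) ((M f).presheaf.stalk Q)) ∧
        (M f).presheaf.germ ⊤ P trivial (comb pX f c) ∉
          (IsLocalRing.maximalIdeal (X.presheaf.stalk P) • ⊤ : Submodule (X.presheaf.stalk P) ((M f).presheaf.stalk P))))
    (htan : ∀ P : X, IsClosed ({P} : Set X) →
      (IsLocalRing.maximalIdeal (X.presheaf.stalk P) • ⊤ : Submodule (X.presheaf.stalk P) ((M f).presheaf.stalk P)) ≤
        Submodule.span (X.presheaf.stalk P) {v | ∃ c : Fin (n + 1) → k, v = (M f).presheaf.germ ⊤ P trivial (comb pX f c) ∧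
          v ∈ (IsLocalRing.maximalIdeal (X.presheaf.stalk P) • ⊤ : Submodule (X.presheaf.stalk P) ((M f).presheaf.stalk P))} ⊔
        (IsLocalRing.maximalIdeal (X.presheaf.stalk P) ^ 2 • ⊤ : Submodule (X.presheaf.stalk P) ((M f).presheaf.stalk P))) :
    IsClosedImmersion f := by
  haveI : IsProper (CohB1.ProjSpace.toSpec n k) := PnCoh.Chow.isProper_toSpec n k
  haveI : IsProper (f ≫ CohB1.ProjSpace.toSpec n k) := by rw [hf]; infer_instance
  haveI : IsProper f := IsProper.of_comp f (CohB1.ProjSpace.toSpec n k)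
  refine S10867.result k f (CohB1.ProjSpace.toSpec n k) (fun P hP Q hQ hPQ => ?_) fun P hP => ?_
  · by_contra hne
    obtain ⟨j, hj⟩ := exists_mem_D (f P)
    have hjQ : f Q ∈ D n k j := (hPQ : f P = f Q) ▸ hj
    have hiff : ∀ (y z : CohB1.ProjSpace n k) (hy : y ∈ D n k j) (hz : z ∈ D n k j), y = z → ∀ g,
        ((CohB1.ProjSpace n k).presheaf.germ (D n k j) y hy g ∈ IsLocalRing.maximalIdeal _ ↔
          (CohB1.ProjSpace n k).presheaf.germ (D n k j) z hz g ∈ IsLocalRing.maximalIdeal _) := by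
      rintro y _ hy hz rfl g; exact Iff.rfl
    obtain ⟨c, hc | hc⟩ := hsep P Q hP hQ hne <;>
      rw [comb_mem_iff hf hj, comb_mem_iff hf hjQ, hiff (f P) (f Q) hj hjQ hPQ] at hc <;>
      exact hc.2 hc.1
  · refine le_antisymm (sup_le ?_ (Ideal.pow_le_self two_ne_zero)) fun a ha => ?_
    · rw [Ideal.map_le_iff_le_comap]
      exact fun r hr => (IsLocalRing.mem_maximalIdeal _).2 fun h =>
        (IsLocalRing.mem_maximalIdeal _).1 hr ((isUnit_map_iff (f.stalkMap P).hom r).1 h)
    obtain ⟨j, hj⟩ := exists_mem_D (f P)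
    have h := htan P hP (Submodule.smul_mem_smul (r := a)
      (n := (M f).presheaf.germ (f ⁻¹ᵁ D n k j) P hj (frame f j)) ha trivial)
    refine (smul_frame_mem_iff (isFrame_frame f j) (x := P) hj _ a).1 ?_
    refine (sup_le ?_ ?_ :
      _ ≤ ((Ideal.map (f.stalkMap P).hom (IsLocalRing.maximalIdeal _) ⊔ IsLocalRing.maximalIdeal (X.presheaf.stalk P) ^ 2) •
        (⊤ : Submodule (X.presheaf.stalk P) ((M f).presheaf.stalk P)))) h
    · rw [Submodule.span_le]
      rintro v ⟨c, rfl, hc⟩
      rw [SetLike.mem_coe, germ_comb hf hj]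
      exact Submodule.smul_mem_smul (Ideal.mem_sup_left (Ideal.mem_map_of_mem _ ((comb_mem_iff hf hj c).1 hc))) trivial
    · exact Submodule.smul_mono_left le_sup_right

end Groth.Agent.ClosedImmPn

end
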